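import Mathlib
import Cfsg.Prelude.Def_Transfer

/-!
Elements of odd order acting on an elementary abelian normal 2-subgroup `M`: the subgroup
`cw M x = [x, M]`, its invariance, and the bound on odd parts of its automorphism groups.
-/

set_option autoImplicit false
set_option linter.unusedSectionVars false

namespace Cfsg.Agent.CommSupport

open Subgroup (centralizer normalizer)
open scoped Pointwise

variable {S : Type*} [Group S] [Finite S] {M : Subgroup S} [M.Normal]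
  (hM : Cfsg.IsElementaryAbelian 2 M)

include hM

theorem mcomm {a b : S} (ha : a ∈ M) (hb : b ∈ M) : a * b = b * a :=
  congrArg Subtype.val (hM.1.is_comm.comm (⟨a, ha⟩ : M) ⟨b, hb⟩)

theorem minv {a : S} (ha : a ∈ M) : a⁻¹ = a :=
  inv_eq_of_mul_eq_one_right (by rw [← pow_two]; exact hM.2 a ha)

theorem d_mem (x : S) {m : S} (hm : m ∈ M) : x * m * x⁻¹ * m⁻¹ ∈ M :=
  M.mul_mem ((inferInstance : M.Normal).conj_mem m hm x) (M.inv_mem hm)

theorem d_mul (x : S) {a b : S} (ha : a ∈ M) (hb : b ∈ M) :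
    x * (a * b) * x⁻¹ * (a * b)⁻¹ = (x * a * x⁻¹ * a⁻¹) * (x * b * x⁻¹ * b⁻¹) := by
  have h : a⁻¹ * (x * b * x⁻¹ * b⁻¹) = (x * b * x⁻¹ * b⁻¹) * a⁻¹ :=
    mcomm hM (M.inv_mem ha) (d_mem hM x hb)
  calc x * (a * b) * x⁻¹ * (a * b)⁻¹
      = (x * a * x⁻¹) * ((x * b * x⁻¹ * b⁻¹) * a⁻¹) := by group
    _ = (x * a * x⁻¹) * (a⁻¹ * (x * b * x⁻¹ * b⁻¹)) := by rw [h]
    _ = _ := by group

omit hM in
/-- `[x, M]`. -/
def cwSet (M : Subgroup S) (x : S) : Set S := {w | ∃ m ∈ M, x * m * x⁻¹ * m⁻¹ = w}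

omit hM in
/-- The subgroup generated by `[x, M]`. -/
def cw (M : Subgroup S) (x : S) : Subgroup S := Subgroup.closure (cwSet M x)

theorem mem_cw {x w : S} : w ∈ cw M x ↔ ∃ m ∈ M, x * m * x⁻¹ * m⁻¹ = w := by
  refine ⟨fun h => ?_, fun h => Subgroup.subset_closure h⟩
  induction h using Subgroup.closure_induction with
  | mem w hw => exact hw
  | one => exact ⟨1, M.one_mem, by group⟩
  | mul a b _ _ ha hb =>
    obtain ⟨m, hm, rfl⟩ := ha
    obtain ⟨n, hn, rfl⟩ := hb
    exact ⟨m * n, M.mul_mem hm hn, d_mul hM x hm hn⟩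
  | inv a _ ha =>
    obtain ⟨m, hm, rfl⟩ := ha
    exact ⟨m, hm, by rw [minv hM (d_mem hM x hm)]⟩

theorem d_mem_cw (x : S) {m : S} (hm : m ∈ M) : x * m * x⁻¹ * m⁻¹ ∈ cw M x :=
  (mem_cw hM).2 ⟨m, hm, rfl⟩

theorem cw_le (x : S) : cw M x ≤ M := fun w hw => by
  obtain ⟨m, hm, rfl⟩ := (mem_cw hM).1 hw
  exact d_mem hM x hm

theorem mem_cw_conj {a x w : S} (h : w ∈ cw M x) : a * w * a⁻¹ ∈ cw M (a * x * a⁻¹) := by
  obtain ⟨m, hm, rfl⟩ := (mem_cw hM).1 h
  exact (mem_cw hM).2 ⟨a * m * a⁻¹, (inferInstance : M.Normal).conj_mem m hm a, by group⟩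

theorem map_cw (a x : S) : (cw M x).map (MulAut.conj a).toMonoidHom = cw M (a * x * a⁻¹) := by
  refine le_antisymm ?_ fun w hw => ⟨a⁻¹ * w * a, ?_, by simp [mul_assoc]⟩
  · rintro _ ⟨w, hw, rfl⟩
    simpa using mem_cw_conj hM (a := a) hw
  · have := mem_cw_conj hM (a := a⁻¹) hw
    simpa [mul_assoc] using this

theorem card_cw_conj (a x : S) : Nat.card (cw M (a * x * a⁻¹)) = Nat.card (cw M x) := by
  rw [← map_cw hM a x]
  exact Nat.card_congr (Subgroup.equivMapOfInjective _ _ (MulAut.conj a).injective).symm.toEquiv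

/-- An element of odd order acting trivially on `d = c m c⁻¹ m⁻¹` fixes `m`. -/
theorem commute_of_stable {c : S} (hc : Odd (orderOf c)) {m : S} (hm : m ∈ M)
    (h : c * (c * m * c⁻¹ * m⁻¹) * c⁻¹ = c * m * c⁻¹ * m⁻¹) : c * m = m * c := by
  set d := c * m * c⁻¹ * m⁻¹ with hd
  have hdM : d ∈ M := d_mem hM c hm
  have key : ∀ k : ℕ, c ^ k * m * (c ^ k)⁻¹ = d ^ k * m := by
    intro k
    induction k with
    | zero => simp
    | succ k ih =>
      have h1 : c * d ^ k * c⁻¹ = d ^ k := by rw [← conj_pow, h]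
      calc c ^ (k + 1) * m * (c ^ (k + 1))⁻¹ = c * (c ^ k * m * (c ^ k)⁻¹) * c⁻¹ := by
            rw [pow_succ']; group
        _ = (c * d ^ k * c⁻¹) * (c * m * c⁻¹) := by rw [ih]; group
        _ = d ^ k * (d * m) := by rw [h1, hd]; group
        _ = _ := by rw [pow_succ]; group
  obtain ⟨j, hj⟩ := hc
  have h2 := key (orderOf c)
  rw [pow_orderOf_eq_one, one_mul, inv_one, mul_one, hj, pow_succ, pow_mul, hM.2 d hdM, one_pow,
    one_mul] at h2
  have hd1 : d = 1 := mul_eq_right.mp h2.symm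
  rw [hd] at hd1
  calc c * m = (c * m * c⁻¹ * m⁻¹) * (m * c) := by group
    _ = m * c := by rw [hd1, one_mul]

/-- An element of odd order has no fixed points on `[x, M]`. -/
theorem eq_one_of_fixed {x w : S} (hx : Odd (orderOf x)) (hw : w ∈ cw M x)
    (hf : x * w = w * x) : w = 1 := by
  obtain ⟨m, hm, rfl⟩ := (mem_cw hM).1 hw
  have h := commute_of_stable hM hx hm (by rw [hf]; group)
  rw [h]; group

/-- A subgroup of `M` containing `[x, M]` is invariant under `x`. -/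
theorem mem_normalizer_of_cw_le {x : S} {K : Subgroup S} (hK : cw M x ≤ K) (hKM : K ≤ M) :
    x ∈ normalizer (K : Set S) := by
  refine Subgroup.mem_normalizer_iff.2 fun k => ⟨fun hk => ?_, fun hk => ?_⟩
  · have := K.mul_mem (hK (d_mem_cw hM x (hKM hk))) hk
    simpa [mul_assoc] using this
  · have hkM : k ∈ M := by
      have := (inferInstance : M.Normal).conj_mem _ (hKM hk) x⁻¹
      simpa [mul_assoc] using this
    have := K.mul_mem (K.inv_mem (hK (d_mem_cw hM x hkM))) hk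
    simpa [mul_assoc] using this

theorem self_mem_normalizer (x : S) : x ∈ normalizer (cw M x : Set S) :=
  mem_normalizer_of_cw_le hM le_rfl (cw_le hM x)

/-- The elements normalising `V` and acting trivially on `M / V`. -/
theorem exists_modStab {V : Subgroup S} (hVM : V ≤ M) :
    ∃ K : Subgroup S, ∀ q, q ∈ K ↔ (q ∈ normalizer (V : Set S) ∧ ∀ m ∈ M, q * m * q⁻¹ * m⁻¹ ∈ V) := by
  refine ⟨{ carrier := {q | q ∈ normalizer (V : Set S) ∧ ∀ m ∈ M, q * m * q⁻¹ * m⁻¹ ∈ V}
            one_mem' := ⟨one_mem _, fun m _ => by simp⟩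
            mul_mem' := fun {a b} ha hb => ⟨mul_mem ha.1 hb.1, fun m hm => ?_⟩
            inv_mem' := fun {a} ha => ⟨inv_mem ha.1, fun m hm => ?_⟩ }, fun q => Iff.rfl⟩
  · have h1 := (Subgroup.mem_normalizer_iff.1 ha.1 _).1 (hb.2 m hm)
    have := V.mul_mem h1 (ha.2 m hm)
    simpa [mul_assoc] using this
  · have h1 := ha.2 _ ((inferInstance : M.Normal).conj_mem m hm a⁻¹)
    have := V.inv_mem h1
    simpa [mul_assoc] using this

/-- An element of odd order acting trivially on `V` and on `M / V` centralises `M`. -/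
theorem mem_centralizer_of_modStab {V : Subgroup S} {c : S} (hc : Odd (orderOf c))
    (h1 : ∀ v ∈ V, c * v = v * c) (h2 : ∀ m ∈ M, c * m * c⁻¹ * m⁻¹ ∈ V) :
    c ∈ centralizer (M : Set S) :=
  Subgroup.mem_centralizer_iff.2 fun m hm =>
    (commute_of_stable hM hc hm (by rw [h1 _ (h2 m hm)]; group)).symm

/-- Every element of `[x, M]` is `[x, n]` with `n` in `[x, M]`, for `x` of odd order. -/
theorem exists_mem_cw_d {x : S} (hx : Odd (orderOf x)) {w : S} (hw : w ∈ cw M x) :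
    ∃ n ∈ cw M x, x * n * x⁻¹ * n⁻¹ = w := by
  let f : cw M x → cw M x := fun n => ⟨_, d_mem_cw hM x (cw_le hM x n.2)⟩
  have hf : Function.Injective f := by
    rintro ⟨a, ha⟩ ⟨b, hb⟩ h
    have h' : x * a * x⁻¹ * a⁻¹ = x * b * x⁻¹ * b⁻¹ := congrArg Subtype.val h
    have hab : a * b⁻¹ ∈ cw M x := mul_mem ha (inv_mem hb)
    have haM := cw_le hM x ha
    have hbM := cw_le hM x hb
    have h0 : x * (a * b⁻¹) * x⁻¹ * (a * b⁻¹)⁻¹ = 1 := by
      rw [d_mul hM x haM (M.inv_mem hbM), minv hM hbM, h', ← pow_two, hM.2 _ (d_mem hM x hbM)]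
    have hf : x * (a * b⁻¹) = (a * b⁻¹) * x := by
      have := congrArg (· * (a * b⁻¹) * x) h0
      simpa [mul_assoc] using this
    exact Subtype.ext (mul_inv_eq_one.1 (eq_one_of_fixed hM hx hab hf))
  obtain ⟨n, hn⟩ := (Finite.injective_iff_surjective.1 hf) ⟨w, hw⟩
  exact ⟨n, n.2, congrArg Subtype.val hn⟩

/-- If `x`, `y` commute on `M` then `y` normalises `[x, M]`. -/
theorem mem_normalizer_of_commute {x y : S}
    (h : x⁻¹ * (y * x * y⁻¹) ∈ centralizer (M : Set S)) : y ∈ normalizer (cw M x : Set S) := by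
  have hfin : (cw M x).map (MulAut.conj y).toMonoidHom = cw M x := by
    rw [map_cw hM]
    ext w
    simp only [mem_cw hM]
    have key : ∀ m ∈ M, (y * x * y⁻¹) * m * (y * x * y⁻¹)⁻¹ * m⁻¹ = x * m * x⁻¹ * m⁻¹ := fun m hm => by
      generalize hc : x⁻¹ * (y * x * y⁻¹) = c at h
      have hy : y * x * y⁻¹ = x * c := by rw [← hc]; group
      have hcm : c * m * c⁻¹ = m := by
        rw [← Subgroup.mem_centralizer_iff.1 h m hm]; group
      rw [hy]
      calc x * c * m * (x * c)⁻¹ * m⁻¹ = x * (c * m * c⁻¹) * x⁻¹ * m⁻¹ := by group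
        _ = _ := by rw [hcm]
    constructor <;> rintro ⟨m, hm, rfl⟩ <;> exact ⟨m, hm, by rw [key m hm]⟩
  refine Subgroup.mem_normalizer_iff.2 fun k => ⟨fun hk => ?_, fun hk => ?_⟩
  · rw [← hfin]; exact ⟨k, hk, rfl⟩
  · obtain ⟨w, hw, hwk⟩ := (SetLike.ext_iff.1 hfin (y * k * y⁻¹)).2 hk
    have : w = k := (MulAut.conj y).injective (by simpa using hwk)
    exact this ▸ hw

/-- An elementary abelian 2-group of order `2 ^ k` has `|GL(k, 2)|` automorphisms. -/
theorem card_mulAut {V : Subgroup S} (hV : V ≤ M) {k : ℕ} (hk : Nat.card V = 2 ^ k) :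
    Nat.card (MulAut V) = ∏ i : Fin k, (2 ^ k - 2 ^ (i : ℕ)) := by
  letI : CommGroup V := { (inferInstance : Group V) with
    mul_comm := fun a b => Subtype.ext (mcomm hM (hV a.2) (hV b.2)) }
  letI : Module (ZMod 2) (Additive V) := AddCommGroup.zmodModule (n := 2) fun x =>
    congrArg Additive.ofMul (Subtype.ext (by simpa using hM.2 _ (hV x.toMul.2)) : x.toMul ^ 2 = 1)
  have hfr : Module.finrank (ZMod 2) (Additive V) =
      Module.finrank (ZMod 2) (Fin k → ZMod 2) := by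
    have h1 := Module.natCard_eq_pow_finrank (K := ZMod 2) (V := Additive V)
    rw [Nat.card_congr Additive.toMul, hk, Nat.card_zmod] at h1
    rw [Module.finrank_fin_fun]
    exact (Nat.pow_right_injective le_rfl h1).symm
  let e : Additive V ≃ₗ[ZMod 2] (Fin k → ZMod 2) := LinearEquiv.ofFinrankEq _ _ hfr
  let lin : MulAut V → (Additive V ≃ₗ[ZMod 2] Additive V) := fun φ =>
    { MulEquiv.toAdditive φ with
      map_smul' := fun c x => (ZMod.map_smul (MulEquiv.toAdditive φ).toAddMonoidHom c x) }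
  have hlin : Function.Bijective lin := by
    refine ⟨fun φ ψ h => MulEquiv.ext fun a => ?_, fun f => ⟨MulEquiv.toAdditive.symm f.toAddEquiv, ?_⟩⟩
    · have h2 := LinearEquiv.congr_fun h (Additive.ofMul a)
      simpa [lin] using h2
    · ext x; rfl
  let cg : (Additive V ≃ₗ[ZMod 2] Additive V) ≃ ((Fin k → ZMod 2) ≃ₗ[ZMod 2] (Fin k → ZMod 2)) :=
    { toFun := fun f => (e.symm.trans f).trans e
      invFun := fun f => (e.trans f).trans e.symm
      left_inv := fun f => by ext; simp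
      right_inv := fun f => by apply LinearEquiv.ext; intro z; simp }
  rw [Nat.card_congr ((Equiv.ofBijective lin hlin).trans
    (cg.trans (Matrix.GeneralLinearGroup.toLin.trans
        (LinearMap.GeneralLinearGroup.generalLinearEquiv (ZMod 2) (Fin k → ZMod 2))).toEquiv.symm)),
    Matrix.card_GL_field, ZMod.card]

omit hM [M.Normal] in
theorem aut_dvd_twoPow (k : ℕ) (hk : k ≤ 4) :
    (∏ i : Fin k, (2 ^ k - 2 ^ (i : ℕ))) ∣ 20160 := by
  interval_cases k <;> decide

omit hM [M.Normal] in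
theorem aut_bound_three (k : ℕ) (hk : k ≤ 4) :
    ¬ 3 ^ 3 ∣ (∏ i : Fin k, (2 ^ k - 2 ^ (i : ℕ))) := by
  interval_cases k <;> decide

omit hM [M.Normal] in
theorem aut_bound_seven (k : ℕ) (hk : k ≤ 6) :
    ¬ 7 ^ 3 ∣ (∏ i : Fin k, (2 ^ k - 2 ^ (i : ℕ))) := by
  interval_cases k <;> decide +kernel

end Cfsg.Agent.CommSupport
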